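import Mathlib

/-!
# S4114: elements `1 + N`, `N³ = 0`, of `SL_4(F)` are real (helper272)
-/

set_option autoImplicit false
set_option linter.unusedSectionVars false

namespace Cfsg.Agent.H272.Ccp

open Matrix

variable {F : Type} [Field F]

local notation "SL4" => Matrix.SpecialLinearGroup (Fin 4) F
local notation "M4" => Matrix (Fin 4) (Fin 4) F

/-- linear independence of four vectors -/
def Ind4 (v : Fin 4 → Fin 4 → F) : Prop :=
  ∀ a b c d : F, a • v 0 + b • v 1 + c • v 2 + d • v 3 = 0 → a = 0 ∧ b = 0 ∧ c = 0 ∧ d = 0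

/-- the matrix with the given columns -/
def cols (v : Fin 4 → Fin 4 → F) : M4 := Matrix.of fun i j => v j i

theorem cols_mulVec (v : Fin 4 → Fin 4 → F) (x : Fin 4 → F) :
    cols v *ᵥ x = x 0 • v 0 + x 1 • v 1 + x 2 • v 2 + x 3 • v 3 := by
  ext i
  simp only [cols, Matrix.mulVec, dotProduct, Fin.sum_univ_four, Matrix.of_apply, Pi.add_apply, Pi.smul_apply, smul_eq_mul]
  ring

theorem cols_inj {v : Fin 4 → Fin 4 → F} (h : Ind4 v) : Function.Injective (cols v).mulVec := by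
  intro x y hxy
  have h1 : cols v *ᵥ (x - y) = 0 := by
    rw [Matrix.mulVec_sub]
    exact sub_eq_zero.2 hxy
  rw [cols_mulVec] at h1
  obtain ⟨h0, h1, h2, h3⟩ := h _ _ _ _ h1
  ext i
  fin_cases i
  · exact sub_eq_zero.1 h0
  · exact sub_eq_zero.1 h1
  · exact sub_eq_zero.1 h2
  · exact sub_eq_zero.1 h3

theorem cols_unit {v : Fin 4 → Fin 4 → F} (h : Ind4 v) : IsUnit (cols v) :=
  Matrix.mulVec_injective_iff_isUnit.1 (cols_inj h)

theorem cols_surj {v : Fin 4 → Fin 4 → F} (h : Ind4 v) (z : Fin 4 → F) :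
    ∃ x : Fin 4 → F, z = x 0 • v 0 + x 1 • v 1 + x 2 • v 2 + x 3 • v 3 := by
  obtain ⟨x, hx⟩ := Matrix.mulVec_surjective_iff_isUnit.2 (cols_unit h) z
  exact ⟨x, by rw [← cols_mulVec]; exact hx.symm⟩

/-- **criterion** -/
theorem real_of {E : SL4} {v : Fin 4 → Fin 4 → F} (h : Ind4 v) (J H : M4) (hN : (E : M4) * cols v = cols v * (1 + J))
    (hH : (1 + J) * H * (1 + J) = H) (hdet : H.det = 1) : ∃ g : SL4, g * E * g⁻¹ = E⁻¹ := by
  obtain ⟨P, hP⟩ := cols_unit h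
  have e1 : ((P⁻¹ : GL (Fin 4) F) : M4) * (P : M4) = 1 := by rw [← Units.val_mul, inv_mul_cancel, Units.val_one]
  have e2 : (P : M4) * ((P⁻¹ : GL (Fin 4) F) : M4) = 1 := by rw [← Units.val_mul, mul_inv_cancel, Units.val_one]
  rw [← hP] at hN
  have hd : ((P : M4) * H * ((P⁻¹ : GL (Fin 4) F) : M4)).det = 1 := by
    rw [Matrix.det_mul, Matrix.det_mul, hdet, mul_one, ← Matrix.det_mul, e2, Matrix.det_one]
  let g : SL4 := ⟨(P : M4) * H * ((P⁻¹ : GL (Fin 4) F) : M4), hd⟩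
  refine ⟨g, ?_⟩
  have h1 : E * g * E = g := by
    apply Subtype.ext
    change (E : M4) * ((P : M4) * H * ((P⁻¹ : GL (Fin 4) F) : M4)) * (E : M4) = (P : M4) * H * ((P⁻¹ : GL (Fin 4) F) : M4)
    have h2 : ((P⁻¹ : GL (Fin 4) F) : M4) * (E : M4) = (1 + J) * ((P⁻¹ : GL (Fin 4) F) : M4) := by
      calc ((P⁻¹ : GL (Fin 4) F) : M4) * (E : M4) = ((P⁻¹ : GL (Fin 4) F) : M4) * ((E : M4) *
            ((P : M4) * ((P⁻¹ : GL (Fin 4) F) : M4))) := by rw [e2, mul_one]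
        _ = ((P⁻¹ : GL (Fin 4) F) : M4) * (((E : M4) * (P : M4)) * ((P⁻¹ : GL (Fin 4) F) : M4)) := by
            simp only [mul_assoc]
        _ = (((P⁻¹ : GL (Fin 4) F) : M4) * (P : M4)) * (1 + J) * ((P⁻¹ : GL (Fin 4) F) : M4) := by
            rw [hN]; simp only [mul_assoc]
        _ = _ := by rw [e1, one_mul]
    calc (E : M4) * ((P : M4) * H * ((P⁻¹ : GL (Fin 4) F) : M4)) * (E : M4)
        = ((E : M4) * (P : M4)) * H * (((P⁻¹ : GL (Fin 4) F) : M4) * (E : M4)) := by simp only [mul_assoc]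
      _ = (P : M4) * ((1 + J) * H * (1 + J)) * ((P⁻¹ : GL (Fin 4) F) : M4) := by
          rw [hN, h2]; simp only [mul_assoc]
      _ = _ := by rw [hH]
  rw [mul_inv_eq_iff_eq_mul, eq_inv_mul_iff_mul_eq, ← mul_assoc]
  exact h1

theorem exists_not_span (v0 v1 v2 : Fin 4 → F) : ∃ x : Fin 4 → F, ∀ a b c : F, x ≠ a • v0 + b • v1 + c • v2 := by
  by_contra hcon
  push Not at hcon
  let f : (Fin 3 → F) →ₗ[F] (Fin 4 → F) :=
    { toFun := fun x => x 0 • v0 + x 1 • v1 + x 2 • v2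
      map_add' := fun x y => by
        simp only [Pi.add_apply, add_smul]
        abel
      map_smul' := fun c x => by
        simp only [Pi.smul_apply, smul_eq_mul, mul_smul, smul_add, RingHom.id_apply] }
  have hs : Function.Surjective f := by
    intro x
    obtain ⟨a, b, c, h⟩ := hcon x
    exact ⟨![a, b, c], h.symm⟩
  have h1 := LinearMap.finrank_le_finrank_of_surjective hs
  rw [Module.finrank_fin_fun, Module.finrank_fin_fun] at h1
  omega

section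

variable {N : Matrix (Fin 4) (Fin 4) F}

theorem mulVec_cols (v w : Fin 4 → Fin 4 → F) (h : ∀ j, N *ᵥ v j = w j) : N * cols v = cols w := by
  ext i j
  have h1 := congrFun (h j) i
  rw [Matrix.mul_apply]
  exact h1

/-- `N v₀ = v₁`, `N v₁ = v₂`, `N v₂ = N v₃ = 0` -/
theorem real31 {E : SL4} (hE : (E : M4) = 1 + N) {v : Fin 4 → Fin 4 → F} (h : Ind4 v) (h0 : N *ᵥ v 0 = v 1)
    (h1 : N *ᵥ v 1 = v 2) (h2 : N *ᵥ v 2 = 0) (h3 : N *ᵥ v 3 = 0) : ∃ g : SL4, g * E * g⁻¹ = E⁻¹ := by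
  apply real_of h !![0, 0, 0, 0; 1, 0, 0, 0; 0, 1, 0, 0; 0, 0, 0, 0] !![1, 0, 0, 0; 0, -1, 0, 0; 0, 1, 1, 0; 0, 0, 0, -1]
  · rw [hE, add_mul, mul_add, one_mul, mul_one]
    congr 1
    rw [mulVec_cols v ![v 1, v 2, 0, 0] (by
      intro j
      fin_cases j
      · exact h0
      · exact h1
      · exact h2
      · exact h3)]
    ext i j
    fin_cases j <;> simp [cols, Matrix.mul_apply, Fin.sum_univ_four]
  · ext i j
    fin_cases i <;> fin_cases j <;> simp [Matrix.mul_apply, Fin.sum_univ_four, Matrix.add_apply]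
  · simp [Matrix.det_succ_row_zero, Fin.sum_univ_succ]

/-- `N v₀ = v₁`, `N v₁ = N v₂ = N v₃ = 0` -/
theorem real211 {E : SL4} (hE : (E : M4) = 1 + N) {v : Fin 4 → Fin 4 → F} (h : Ind4 v) (h0 : N *ᵥ v 0 = v 1)
    (h1 : N *ᵥ v 1 = 0) (h2 : N *ᵥ v 2 = 0) (h3 : N *ᵥ v 3 = 0) : ∃ g : SL4, g * E * g⁻¹ = E⁻¹ := by
  apply real_of h !![0, 0, 0, 0; 1, 0, 0, 0; 0, 0, 0, 0; 0, 0, 0, 0] !![1, 0, 0, 0; 0, -1, 0, 0; 0, 0, -1, 0; 0, 0, 0, 1]
  · rw [hE, add_mul, mul_add, one_mul, mul_one]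
    congr 1
    rw [mulVec_cols v ![v 1, 0, 0, 0] (by
      intro j
      fin_cases j
      · exact h0
      · exact h1
      · exact h2
      · exact h3)]
    ext i j
    fin_cases j <;> simp [cols, Matrix.mul_apply, Fin.sum_univ_four]
  · ext i j
    fin_cases i <;> fin_cases j <;> simp [Matrix.mul_apply, Fin.sum_univ_four, Matrix.add_apply]
  · simp [Matrix.det_succ_row_zero, Fin.sum_univ_succ]

/-- `N v₀ = v₁`, `N v₂ = v₃`, `N v₁ = N v₃ = 0` -/
theorem real22 {E : SL4} (hE : (E : M4) = 1 + N) {v : Fin 4 → Fin 4 → F} (h : Ind4 v) (h0 : N *ᵥ v 0 = v 1)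
    (h1 : N *ᵥ v 1 = 0) (h2 : N *ᵥ v 2 = v 3) (h3 : N *ᵥ v 3 = 0) : ∃ g : SL4, g * E * g⁻¹ = E⁻¹ := by
  apply real_of h !![0, 0, 0, 0; 1, 0, 0, 0; 0, 0, 0, 0; 0, 0, 1, 0] !![1, 0, 0, 0; 0, -1, 0, 0; 0, 0, 1, 0; 0, 0, 0, -1]
  · rw [hE, add_mul, mul_add, one_mul, mul_one]
    congr 1
    rw [mulVec_cols v ![v 1, 0, v 3, 0] (by
      intro j
      fin_cases j
      · exact h0
      · exact h1
      · exact h2
      · exact h3)]
    ext i j
    fin_cases j <;> simp [cols, Matrix.mul_apply, Fin.sum_univ_four]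
  · ext i j
    fin_cases i <;> fin_cases j <;> simp [Matrix.mul_apply, Fin.sum_univ_four, Matrix.add_apply]
  · simp [Matrix.det_succ_row_zero, Fin.sum_univ_succ]

theorem real_sq_ne {E : SL4} (hE : (E : M4) = 1 + N) (h3 : N * N * N = 0) (h2 : N * N ≠ 0) :
    ∃ g : SL4, g * E * g⁻¹ = E⁻¹ := by
  obtain ⟨v, hv⟩ : ∃ v, N *ᵥ (N *ᵥ v) ≠ 0 := by
    by_contra hcon
    push Not at hcon
    apply h2
    apply Matrix.mulVec_injective
    funext v
    rw [← Matrix.mulVec_mulVec, hcon v, Matrix.zero_mulVec]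
  have h3' : ∀ x, N *ᵥ (N *ᵥ (N *ᵥ x)) = 0 := by
    intro x
    rw [Matrix.mulVec_mulVec, Matrix.mulVec_mulVec, h3, Matrix.zero_mulVec]
  obtain ⟨x, hx⟩ := exists_not_span v (N *ᵥ v) (N *ᵥ (N *ᵥ v))
  -- independence
  have ind3 : ∀ a b c : F, a • v + b • (N *ᵥ v) + c • (N *ᵥ (N *ᵥ v)) = 0 → a = 0 ∧ b = 0 ∧ c = 0 := by
    intro a b c h
    have e1 := congrArg (fun z => N *ᵥ z) h
    simp only [Matrix.mulVec_add, Matrix.mulVec_smul, Matrix.mulVec_zero, h3', smul_zero, add_zero] at e1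
    have e2 := congrArg (fun z => N *ᵥ z) e1
    simp only [Matrix.mulVec_add, Matrix.mulVec_smul, Matrix.mulVec_zero, h3', smul_zero, add_zero] at e2
    have ha : a = 0 := (smul_eq_zero.1 e2).resolve_right hv
    rw [ha, zero_smul, zero_add] at e1
    have hb : b = 0 := (smul_eq_zero.1 e1).resolve_right hv
    rw [ha, hb, zero_smul, zero_smul, zero_add, zero_add] at h
    exact ⟨ha, hb, (smul_eq_zero.1 h).resolve_right hv⟩
  have ind4 : ∀ x : Fin 4 → F, (∀ a b c : F, x ≠ a • v + b • (N *ᵥ v) + c • (N *ᵥ (N *ᵥ v))) →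
      Ind4 ![v, N *ᵥ v, N *ᵥ (N *ᵥ v), x] := by
    intro x hx a b c d h
    have h' : a • v + b • (N *ᵥ v) + c • (N *ᵥ (N *ᵥ v)) + d • x = 0 := h
    have hd : d = 0 := by
      by_contra hd
      apply hx (-(d⁻¹ * a)) (-(d⁻¹ * b)) (-(d⁻¹ * c))
      have h4 : d • x = -(a • v + b • (N *ᵥ v) + c • (N *ᵥ (N *ᵥ v))) := (neg_eq_of_add_eq_zero_right h').symm
      have h5 : x = d⁻¹ • (d • x) := by rw [smul_smul, inv_mul_cancel₀ hd, one_smul]
      rw [h5, h4]
      simp only [smul_neg, smul_add, neg_smul, mul_smul]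
      abel
    rw [hd, zero_smul, add_zero] at h'
    obtain ⟨ha, hb, hc⟩ := ind3 a b c h'
    exact ⟨ha, hb, hc, hd⟩
  obtain ⟨y, hy⟩ := cols_surj (ind4 x hx) (N *ᵥ x)
  have hy' : N *ᵥ x = y 0 • v + y 1 • (N *ᵥ v) + y 2 • (N *ᵥ (N *ᵥ v)) + y 3 • x := hy
  have e1 : N *ᵥ (N *ᵥ x) = y 0 • (N *ᵥ v) + y 1 • (N *ᵥ (N *ᵥ v)) + y 3 • (N *ᵥ x) := by
    conv_lhs => rw [hy']
    simp only [Matrix.mulVec_add, Matrix.mulVec_smul, h3', smul_zero, add_zero]
  have e2 : (0 : Fin 4 → F) = y 0 • (N *ᵥ (N *ᵥ v)) + y 3 • (N *ᵥ (N *ᵥ x)) := by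
    rw [← h3' x]
    conv_lhs => rw [e1]
    simp only [Matrix.mulVec_add, Matrix.mulVec_smul, h3', smul_zero, add_zero]
  rw [e1, hy'] at e2
  have e3 : (y 3 * (y 3 * y 0)) • v + (y 3 * y 0 + y 3 * (y 3 * y 1)) • (N *ᵥ v) +
      (y 0 + y 3 * y 1 + y 3 * (y 3 * y 2)) • (N *ᵥ (N *ᵥ v)) + (y 3 * (y 3 * y 3)) • x = 0 := by
    rw [e2]
    simp only [smul_add, add_smul, mul_smul]
    abel
  obtain ⟨-, -, f3, f4⟩ := ind4 x hx _ _ _ _ e3
  have hy3 : y 3 = 0 := by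
    rcases mul_eq_zero.1 f4 with h | h
    · exact h
    · rcases mul_eq_zero.1 h with h | h <;> exact h
  rw [hy3, zero_mul, zero_mul, add_zero, add_zero] at f3
  rw [f3, hy3, zero_smul, zero_smul, zero_add, add_zero] at hy'
  -- the fourth vector
  set w := x - y 1 • v - y 2 • (N *ᵥ v) with hw
  have hNw : N *ᵥ w = 0 := by
    rw [hw]
    simp only [Matrix.mulVec_sub, Matrix.mulVec_smul, hy']
    abel
  have hwi : ∀ a b c : F, w ≠ a • v + b • (N *ᵥ v) + c • (N *ᵥ (N *ᵥ v)) := by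
    intro a b c h
    apply hx (a + y 1) (b + y 2) c
    have h4 : x = w + y 1 • v + y 2 • (N *ᵥ v) := by rw [hw]; abel
    rw [h4, h]
    simp only [add_smul]
    abel
  exact real31 hE (ind4 w hwi) rfl rfl (h3' v) hNw

theorem real_sq_zero {E : SL4} (hE : (E : M4) = 1 + N) (h2 : N * N = 0) (h1 : N ≠ 0) :
    ∃ g : SL4, g * E * g⁻¹ = E⁻¹ := by
  obtain ⟨v, hv⟩ : ∃ v, N *ᵥ v ≠ 0 := by
    by_contra hcon
    push Not at hcon
    apply h1
    apply Matrix.mulVec_injective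
    funext v
    rw [hcon v, Matrix.zero_mulVec]
  have h2' : ∀ x, N *ᵥ (N *ᵥ x) = 0 := by
    intro x
    rw [Matrix.mulVec_mulVec, h2, Matrix.zero_mulVec]
  by_cases hr : ∃ x, ∀ c : F, N *ᵥ x ≠ c • (N *ᵥ v)
  · obtain ⟨x, hx⟩ := hr
    refine real22 hE (v := ![v, N *ᵥ v, x, N *ᵥ x]) ?_ rfl (h2' v) rfl (h2' x)
    have key : ∀ a c : F, a • (N *ᵥ v) + c • (N *ᵥ x) = 0 → a = 0 ∧ c = 0 := by
      intro a c h
      have hc : c = 0 := by
        by_contra hc
        apply hx (-(c⁻¹ * a))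
        have h4 : c • (N *ᵥ x) = -(a • (N *ᵥ v)) := (neg_eq_of_add_eq_zero_right h).symm
        have h5 : N *ᵥ x = c⁻¹ • (c • (N *ᵥ x)) := by rw [smul_smul, inv_mul_cancel₀ hc, one_smul]
        rw [h5, h4, smul_neg, neg_smul, mul_smul]
      rw [hc, zero_smul, add_zero] at h
      exact ⟨(smul_eq_zero.1 h).resolve_right hv, hc⟩
    intro a b c d h
    have h' : a • v + b • (N *ᵥ v) + c • x + d • (N *ᵥ x) = 0 := h
    have e1 := congrArg (fun z => N *ᵥ z) h'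
    simp only [Matrix.mulVec_add, Matrix.mulVec_smul, Matrix.mulVec_zero, h2', smul_zero, add_zero] at e1
    obtain ⟨ha, hc⟩ := key a c e1
    rw [ha, hc, zero_smul, zero_smul, zero_add, add_zero] at h'
    obtain ⟨hb, hd⟩ := key b d h'
    exact ⟨ha, hb, hc, hd⟩
  · push Not at hr
    obtain ⟨x, hx⟩ := exists_not_span v (N *ᵥ v) 0
    obtain ⟨y, hy⟩ := exists_not_span v (N *ᵥ v) x
    obtain ⟨p, hp⟩ := hr x
    obtain ⟨q, hq⟩ := hr y
    refine real211 hE (v := ![v, N *ᵥ v, x - p • v, y - q • v]) ?_ rfl (h2' v) ?_ ?_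
    · intro a b c d h
      have h' : a • v + b • (N *ᵥ v) + c • (x - p • v) + d • (y - q • v) = 0 := h
      have e1 : (a - c * p - d * q) • v + b • (N *ᵥ v) + c • x + d • y = 0 := by
        rw [← h']
        simp only [sub_smul, smul_sub, mul_smul]
        abel
      have hd : d = 0 := by
        by_contra hd
        apply hy (-(d⁻¹ * (a - c * p - d * q))) (-(d⁻¹ * b)) (-(d⁻¹ * c))
        have h4 : d • y = -((a - c * p - d * q) • v + b • (N *ᵥ v) + c • x) := (neg_eq_of_add_eq_zero_right e1).symm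
        have h5 : y = d⁻¹ • (d • y) := by rw [smul_smul, inv_mul_cancel₀ hd, one_smul]
        rw [h5, h4]
        simp only [smul_neg, smul_add, neg_smul, mul_smul]
        abel
      rw [hd, zero_mul, sub_zero, zero_smul, add_zero] at e1
      have hc : c = 0 := by
        by_contra hc
        apply hx (-(c⁻¹ * (a - c * p))) (-(c⁻¹ * b)) 0
        have h4 : c • x = -((a - c * p) • v + b • (N *ᵥ v)) := (neg_eq_of_add_eq_zero_right e1).symm
        have h5 : x = c⁻¹ • (c • x) := by rw [smul_smul, inv_mul_cancel₀ hc, one_smul]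
        rw [h5, h4]
        simp only [smul_neg, smul_add, neg_smul, mul_smul, smul_zero, add_zero]
        abel
      rw [hc, zero_mul, sub_zero, zero_smul, add_zero] at e1
      have e2 := congrArg (fun z => N *ᵥ z) e1
      simp only [Matrix.mulVec_add, Matrix.mulVec_smul, Matrix.mulVec_zero, h2', smul_zero, add_zero] at e2
      have ha : a = 0 := (smul_eq_zero.1 e2).resolve_right hv
      rw [ha, zero_smul, zero_add] at e1
      exact ⟨ha, (smul_eq_zero.1 e1).resolve_right hv, hc, hd⟩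
    · show N *ᵥ (x - p • v) = 0
      rw [Matrix.mulVec_sub, Matrix.mulVec_smul, hp, sub_self]
    · show N *ᵥ (y - q • v) = 0
      rw [Matrix.mulVec_sub, Matrix.mulVec_smul, hq, sub_self]

/-- **`1 + N` with `N³ = 0` is real in `SL_4(F)`.** -/
theorem real_four {E : SL4} (hE : (E : M4) = 1 + N) (h3 : N * N * N = 0) : ∃ g : SL4, g * E * g⁻¹ = E⁻¹ := by
  by_cases h2 : N * N = 0
  · by_cases h1 : N = 0
    · refine ⟨1, ?_⟩
      have : E = 1 := by
        apply Subtype.ext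
        rw [hE, h1, add_zero]
        rfl
      rw [this]
      simp
    · exact real_sq_zero hE h2 h1
  · exact real_sq_ne hE h3 h2

end

end Cfsg.Agent.H272.Ccp
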